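import Groth.Agent.CycB.DimIneq
import Groth.Agent.CycB.RelDim3
import Groth.Agent.VarietyA.LocDim
import Groth.Agent.IntSh.K877.Dev
import Groth.Agent.IntSh.K878.FilMain
import Groth.Agent.IntSh.K878.PushSup
import Groth.Agent.Sga2.StalkGen68
import Groth.Agent.Cyc.K307.PBGeom
import Groth.Agent.FormalA.Support
import Groth.Agent.Sga67.TensorOps
import Groth.Agent.IntSh.K878.Cap
import Groth.Agent.IntSh.K878.DeltaMem

/-!
# The filtration of `K_•(X)` by a dimension function

`IsDim S d`: `d : X → ℤ` is strictly decreasing along proper specializations outside the set `S`, which is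
stable under specialization. `Low S d m` is the set of points in `S` or with `d ≤ m`.

* `IsDim.lift`: the function `x ↦ d (f x) + trdeg κ(x)/κ(f x)` is again one, for `f` locally of finite type.
* `gammaFiltration_mem`: `F^n K^•(X)` maps `ksup (Low S d m)` into `ksup (Low S d (m - n))`.
-/

set_option autoImplicit false
universe v u

open CategoryTheory CategoryTheory.Limits AlgebraicGeometry Opposite TopologicalSpace

namespace K935.DimFil

open Groth.Agent Groth.Agent.CycB.LocQuot Groth.Agent.CycB.RelDim K878.KSup K878.CapEx K878.FilMain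

variable {X Y : Scheme.{u}}

/-- A function strictly decreasing along proper specializations outside a set stable under specialization. -/
structure IsDim (S : Set X) (d : X → ℤ) : Prop where
  stable : ∀ x y : X, x ⤳ y → x ∈ S → y ∈ S
  lt : ∀ x y : X, x ⤳ y → x ≠ y → y ∉ S → d y < d x

/-- The points in `S` or with `d ≤ m`. -/
def Low (S : Set X) (d : X → ℤ) (m : ℤ) : Set X := {x | x ∈ S ∨ d x ≤ m}

theorem Low_mono (S : Set X) (d : X → ℤ) {m n : ℤ} (h : m ≤ n) : Low S d m ⊆ Low S d n :=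
  fun _ hx => hx.imp_right fun hx => hx.trans h

variable {S : Set X} {d : X → ℤ}

theorem IsDim.le (h : IsDim S d) {x y : X} (hxy : x ⤳ y) (hy : y ∉ S) : d y ≤ d x := by
  by_cases hne : x = y
  · rw [hne]
  · exact (h.lt x y hxy hne hy).le

theorem IsDim.add_le (h : IsDim S d) {y : X} (hy : y ∉ S)
    (s : LTSeries (PrimeSpectrum (X.presheaf.stalk y))) (i : ℕ) (hi : i < s.length + 1) :
    d (ptOf (s ⟨i, hi⟩)) + i ≤ d (ptOf (s 0)) := by
  induction i with
  | zero => simp
  | succ i ih =>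
    have h1 := ih (by omega)
    have hlt : s ⟨i, by omega⟩ < s ⟨i + 1, hi⟩ := s.strictMono (by
      rw [Fin.mk_lt_mk]
      omega)
    have hsp : ptOf (s ⟨i, by omega⟩) ⤳ ptOf (s ⟨i + 1, hi⟩) :=
      (ptOf_specializes_iff _ _).2 hlt.le
    have hne : ptOf (s ⟨i, by omega⟩) ≠ ptOf (s ⟨i + 1, hi⟩) := fun hc =>
      hlt.ne (ptOf_injective y hc)
    have hS : ptOf (s ⟨i + 1, hi⟩) ∉ S := fun hc => hy (h.stable _ _ (ptOf_specializes _) hc)
    have h2 := h.lt _ _ hsp hne hS
    push_cast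
    omega

theorem IsDim.add_codim_le (h : IsDim S d) {x y : X} (hxy : x ⤳ y) (hy : y ∉ S) (n : ℕ)
    (hn : ringKrullDim (Cyc.LocQuot y x hxy) = n) : d y + n ≤ d x := by
  obtain ⟨l, hl⟩ := Order.le_krullDim_iff.1 (show (n : WithBot ℕ∞) ≤
    Order.krullDim (PrimeSpectrum (Cyc.LocQuot y x hxy)) from hn.ge)
  let s : LTSeries (PrimeSpectrum (X.presheaf.stalk y)) :=
    l.map (PrimeSpectrum.comap (Ideal.Quotient.mk (RingHom.ker (Cyc.specMap y x hxy))))
      (RingHom.strictMono_comap_of_surjective Ideal.Quotient.mk_surjective)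
  have hs : s.length = n := hl
  have h1 := h.add_le hy s n (by omega)
  have h2 : d y ≤ d (ptOf (s ⟨n, by omega⟩)) := h.le (ptOf_specializes _) hy
  have h3 : x ⤳ ptOf (s 0) := by
    rw [← ptOf_primeOf hxy, ptOf_specializes_iff]
    change (primeOf hxy).asIdeal ≤ (s 0).asIdeal
    rw [primeOf_asIdeal]
    intro a ha
    change Ideal.Quotient.mk _ a ∈ (l 0).asIdeal
    rw [Ideal.Quotient.eq_zero_iff_mem.2 ha]
    exact zero_mem _
  have h4 : d (ptOf (s 0)) ≤ d x := h.le h3 fun hc => hy (h.stable _ _ (ptOf_specializes _) hc)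
  omega

theorem one_le_codim {x y : X} (hxy : x ⤳ y) (hne : x ≠ y) (n : ℕ)
    (hn : ringKrullDim (Cyc.LocQuot y x hxy) = n) : 1 ≤ n := by
  by_contra hc
  have h0 : n = 0 := by omega
  subst h0
  have h1 : Ring.KrullDimLE 0 (Cyc.LocQuot y x hxy) := (Ring.krullDimLE_iff).2 (by rw [hn])
  have hpr : (RingHom.ker (Cyc.specMap y x hxy)).IsPrime := RingHom.ker_isPrime _
  have h2 : (⊥ : Ideal (Cyc.LocQuot y x hxy)).IsPrime := Ideal.isPrime_bot
  have h3 : (⊥ : Ideal (Cyc.LocQuot y x hxy)).IsMaximal := Ideal.IsPrime.isMaximal' h2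
  have h4 : (RingHom.ker (Cyc.specMap y x hxy)).IsMaximal := (Ideal.bot_quotient_isMaximal_iff _).1 h3
  have h5 := IsLocalRing.eq_maximalIdeal h4
  rw [← ker_refl y] at h5
  exact hne ((ker_inj hxy (specializes_refl y)).1 h5)

/-- The dimension function `x ↦ d (f x) + trdeg κ(x)/κ(f x)`. -/
noncomputable def up (f : X ⟶ Y) (d : Y → ℤ) (x : X) : ℤ := d (f x) + (Cardinal.toNat (rtd f x) : ℤ)

theorem exists_rtd (f : X ⟶ Y) [LocallyOfFiniteType f] (x : X) : ∃ n : ℕ, rtd f x = n :=
  Cardinal.lt_aleph0.1 (rtd_lt_aleph0 f x)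

theorem IsDim.up {S : Set Y} {d : Y → ℤ} (h : IsDim S d) (f : X ⟶ Y) [LocallyOfFiniteType f]
    [IsLocallyNoetherian Y] : IsDim (f ⁻¹' S) (up f d) where
  stable x y hxy hx := h.stable _ _ (hxy.map f.continuous) hx
  lt x y hxy hne hy := by
    obtain ⟨dX, dY, h1, h2, h3⟩ := CycB.DimIneq.dim_ineq f hxy
    obtain ⟨a, ha⟩ := exists_rtd f x
    obtain ⟨b, hb⟩ := exists_rtd f y
    have h4 : (dX : Cardinal.{u}) + rtd f y ≤ dY + rtd f x := h3
    rw [ha, hb] at h4
    have h5 : dX + b ≤ dY + a := by exact_mod_cast h4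
    have h6 := h.add_codim_le (hxy.map f.continuous) hy dY h2
    have h7 := one_le_codim hxy hne dX h1
    unfold K935.DimFil.up
    rw [ha, hb, Cardinal.toNat_natCast, Cardinal.toNat_natCast]
    omega

theorem rtd_le_of_hasRelDim (f : X ⟶ Y) [LocallyOfFiniteType f] {r : ℕ} (hr : Cyc.HasRelDim f r)
    (x : X) : Cardinal.toNat (rtd f x) ≤ r := by
  obtain ⟨x', h1, h2, h3⟩ := exists_fibGeneric_specializes f x
  have h4 := rtd_of_fibGeneric hr h3
  have h5 := VarietyA.LocDim.rtd_le_of_specializes f h1 h2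
  rw [h4] at h5
  obtain ⟨n, hn⟩ := exists_rtd f x
  rw [hn, Cardinal.toNat_natCast]
  rw [hn] at h5
  exact_mod_cast h5

/-! ### The four clauses -/

theorem Low_stable (h : IsDim S d) (m : ℤ) (x : X) (hx : x ∈ Low S d m) (y : X) (hxy : x ⤳ y) :
    y ∈ Low S d m := by
  rcases hx with hx | hx
  · exact Or.inl (h.stable x y hxy hx)
  · by_cases hy : y ∈ S
    · exact Or.inl hy
    · exact Or.inr ((h.le hxy hy).trans hx)

theorem length_tb {L : X.Modules} (hL : PicF.IsInvertible L) (G : X.Modules) (x : X) :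
    Module.length (X.presheaf.stalk x) (((tb L).obj G).presheaf.stalk x) =
      Module.length (X.presheaf.stalk x) (G.presheaf.stalk x) := by
  obtain ⟨e⟩ := Sga2.StalkGen68.nonempty_stalkEquiv_tensor G hL x
  have e1 : (tb L).obj G ≅ CohB1.tensorMod G L := Sga67.TensorOps.tensorComm L G
  rw [(CycB.StalkExact.stalkLinEquiv e1 x).length_eq, ← e.length_eq]

variable [AlgebraicGeometry.IsNoetherian X]

theorem line_mem (h : IsDim S d) {L : X.Modules} (hL : PicF.IsInvertible L) (m : ℤ) (η : SGA6.Kcoh X)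
    (hη : η ∈ ksup X (Low S d m)) : η - capHom X (KRR.cl X L) η ∈ ksup X (Low S d (m - 1)) := by
  have hLf : FlatMod.IsFinLocFree L := K878.DeltaMem.flf hL
  refine map_mem_of (AddMonoidHom.id _ - capHom X (KRR.cl X L)) _ (fun G hG hGT => ?_) hη
  change KDet.clc X G - capHom X (KRR.cl X L) (KDet.clc X G) ∈ _
  rw [capHom_cl hLf hG]
  have hG' : Coh.IsCoh ((tb L).obj G) := isCoh_tb (isCoh_flf hLf) hG
  have hsup : CohB1.support ((tb L).obj G) ⊆ Low S d m :=
    (K878.Cap.support_tensor_right L G).trans hGT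
  have hS := fun x hx y hxy => Low_stable h (m - 1) x hx y hxy
  have hST : ∀ x ∈ Low S d m, x ∉ Low S d (m - 1) → ∀ y, x ⤳ y → y ≠ x → y ∈ Low S d (m - 1) := by
    intro x hx hx' y hxy hne
    by_cases hy : y ∈ S
    · exact Or.inl hy
    · rcases hx with hx | hx
      · exact absurd (h.stable _ _ hxy hx) hy
      · have := h.lt x y hxy (Ne.symm hne) hy
        exact Or.inr (by omega)
  obtain ⟨a, ha1, ha2, ha3⟩ := IntSh.K877.Dev.exists_devissage (Low S d (m - 1)) (Low S d m) hS hST G hG hGT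
  obtain ⟨b, hb1, hb2, hb3⟩ := IntSh.K877.Dev.exists_devissage (Low S d (m - 1)) (Low S d m) hS hST _ hG' hsup
  have hab : a = b := by
    ext x
    by_cases hx : x ∈ Low S d m ∧ x ∉ Low S d (m - 1)
    · have h1 := ha3 x hx.1 hx.2
      have h2 := hb3 x hx.1 hx.2
      rw [length_tb hL, h1] at h2
      exact_mod_cast h2
    · have h1 : a x = 0 := by
        by_contra hc
        exact hx (ha1 x hc)
      have h2 : b x = 0 := by
        by_contra hc
        exact hx (hb1 x hc)
      rw [h1, h2]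
  subst hab
  have h3 := sub_mem ha2 hb2
  rw [sub_sub_sub_cancel_right] at h3
  exact h3

theorem inv_mem {m : ℤ} {N : X.Modules} (hN : PicF.IsInvertible N) (η : SGA6.Kcoh X)
    (hη : η ∈ ksup X (Low S d m)) : capHom X (KRR.cl X N) η ∈ ksup X (Low S d m) := by
  refine map_mem_of (capHom X (KRR.cl X N)) _ (fun G hG hGT => ?_) hη
  rw [capHom_cl (K878.DeltaMem.flf hN) hG]
  exact clc_mem fun _ => (K878.Cap.support_tensor_right N G).trans hGT

theorem isLift (h : IsDim S d) {P : Scheme.{u}} [AlgebraicGeometry.IsNoetherian P] (π : P ⟶ X) [Flat π]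
    [IsProper π] (r : ℕ) (hr : Cyc.HasRelDim π r) (O1 N : P.Modules) (hO1 : PicF.IsInvertible O1)
    (hN : PicF.IsInvertible N) :
    IsLift π r O1 N (fun m => ksup X (Low S d m)) (fun m => ksup P (Low (π ⁻¹' S) (up π d) m)) where
  line m η hη := line_mem (h.up π) hO1 m η hη
  inv m η hη := inv_mem hN η hη
  pull m ξ hξ := by
    refine map_mem_of (K878.PBPush.pull π) _ (fun G hG hGT => ?_) hξ
    rw [K878.PBPush.pull_clc π hG]
    refine clc_mem fun _ x hx => ?_
    have h1 := hGT (FormalA.Support.support_pullback_subset π G hG.2 hx)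
    rcases h1 with h1 | h1
    · exact Or.inl h1
    · refine Or.inr ?_
      have h2 := rtd_le_of_hasRelDim π hr x
      unfold up
      have h3 : (Cardinal.toNat (rtd π x) : ℤ) ≤ r := by exact_mod_cast h2
      exact add_le_add h1 h3
  push gc hgc m η hη := by
    refine K878.PushSup.push_mem π hgc (fun x hx => ?_) hη
    rcases hx with hx | hx
    · exact Or.inl hx
    · refine Or.inr (le_trans ?_ hx)
      unfold up
      have : (0 : ℤ) ≤ (Cardinal.toNat (rtd π x) : ℤ) := Int.natCast_nonneg _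
      omega

/-- **The `γ`-filtration lowers the filtration by a dimension function.** -/
theorem gammaFiltration_mem [ConnectedSpace X] (h : IsDim S d) {KX : Type v} [CommRing KX]
    [LambdaRing.LambdaOps KX] {PX : LambdaRing.PosStructure KX} {φX : SGA6.Kvb X →+ KX}
    (hKX : KRR.IsModel X KX PX φX) {μ : KX →+ SGA6.Kcoh X →+ SGA6.Kcoh X} (hμ : KDet.IsCap φX μ)
    {n : ℕ} {a : KX} (ha : a ∈ LambdaRing.gammaFiltration PX n) {m : ℤ} {ξ : SGA6.Kcoh X}
    (hξ : ξ ∈ ksup X (Low S d m)) : μ a ξ ∈ ksup X (Low S d (m - n)) := by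
  refine K878.FilMain.gammaFiltration_le hKX hμ (Fil := fun m => ksup X (Low S d m))
    (fun i j hij => ksup_mono (Low_mono S d hij)) ?_ n ha m ξ hξ
  intro r E hE P _ π _ _ O1 N q hP hN _
  exact ⟨_, isLift h π r (K307.PBGeom.hasRelDim hE hP) O1 N (K878.PBUnit.isInvertible_O1 hP) hN⟩

end K935.DimFil
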