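import Groth.Agent.IntSh.K935.PushF
import Groth.Agent.IntSh.K878.ChernMain

/-!
# The relative intersection number

* `aug_eq_zero`: `ε(π_*^F x) = 0` for `x ∈ F^{d+1} K^•(X)`.
* `aug_chern_nonneg`: `ε(π_*^F c^d(E)) ≥ 0` for `E` of rank `d + 1` a quotient of an inverse image.

Both modulo the generation of `K^•(X)` by acyclic bundles.
-/

set_option autoImplicit false
universe u

open CategoryTheory CategoryTheory.Limits AlgebraicGeometry Opposite TopologicalSpace

namespace K935.AugMain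

open Groth.Agent Groth.Agent.CycB.RelDim K878.KSup K878.CapEx K935.DimFil K935.Lam K935.TrivAct
  K937.ProjDet K935.PushF

variable {X Y : Scheme.{u}} [AlgebraicGeometry.IsNoetherian X] [AlgebraicGeometry.IsNoetherian Y]
  (π : X ⟶ Y) [IsProper π] [HasInjectiveResolutions X.Modules] [ConnectedSpace X] [ConnectedSpace Y]
  {KX : Type u} [CommRing KX] [LambdaRing.LambdaOps KX] {PX : LambdaRing.PosStructure KX}
  {φX : SGA6.Kvb X →+ KX} {KY : Type u} [CommRing KY] [LambdaRing.LambdaOps KY]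
  {PY : LambdaRing.PosStructure KY} {φY : SGA6.Kvb Y →+ KY} {g : KX →+ KY}

omit [AlgebraicGeometry.IsNoetherian Y] [ConnectedSpace Y] in
/-- The complement of a maximal point. -/
theorem isDim_ne {η : Y} (hη : ringKrullDim (Y.presheaf.stalk η) = 0) :
    IsDim {y : Y | y ≠ η} fun _ => (0 : ℤ) where
  stable x y hxy hx hy := hx (by
    subst hy
    exact (IntSh.K877.Pts.dim_eq_zero_iff y).1 hη x hxy)
  lt x y hxy hne hy := by
    have h1 : y = η := not_not.1 hy
    subst h1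
    exact absurd ((IntSh.K877.Pts.dim_eq_zero_iff y).1 hη x hxy) hne

theorem aug_eq_zero (hKX : KRR.IsModel X KX PX φX) (hKY : KRR.IsModel Y KY PY φY) {F : X.Modules}
    (hF : Coh.IsCoh F) {d : ℕ}
    (hd : ∀ y : Y, topologicalKrullDim ↥(CohB1.support F ∩ π.base ⁻¹' {y}) ≤ (d : WithBot ℕ∞))
    (hg : KDet.IsPushF π F φX φY g)
    (hgen : ∀ x : KX, x ∈ AddSubgroup.closure {x | ∃ E, Good π F E ∧ x = φX (KRR.cl X E)})
    {x : KX} (hx : x ∈ LambdaRing.gammaFiltration PX (d + 1)) : PY.aug (g x) = 0 := by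
  obtain ⟨η, hη⟩ := exists_dim_zero Y
  obtain ⟨N, gc, hgc⟩ := exists_isPushCoh π
  have hμ := isCap hKX
  have h1 : KDet.clc X F ∈ ksup X (Low (π ⁻¹' {y : Y | y ≠ η}) (up π fun _ => (0 : ℤ)) d) :=
    clc_mem fun _ => support_subset π hF η (hd η)
  have h2 := gammaFiltration_mem ((isDim_ne hη).up π) hKX hμ hx h1
  have h3 : gc (capK hKX x (KDet.clc X F)) ∈ ksup Y {y : Y | y ≠ η} := by
    refine K878.PushSup.push_mem π hgc (fun x hx => ?_) h2
    rcases hx with hx | hx
    · exact hx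
    · exfalso
      unfold up at hx
      have : (0 : ℤ) ≤ (Cardinal.toNat (rtd π x) : ℤ) := Int.natCast_nonneg _
      push_cast at hx
      omega
  have h4 := lam_ksup hη (T := {y : Y | y ≠ η}) (fun hc => hc rfl) h3
  rw [lam_push π hKY hμ hgc hF hg hgen hη] at h4
  rcases mul_eq_zero.1 h4 with h | h
  · exact h
  · exact absurd h (lam_one_pos hη).ne'

theorem aug_chern_nonneg (hKX : KRR.IsModel X KX PX φX) (hKY : KRR.IsModel Y KY PY φY) {F : X.Modules}
    (hF : Coh.IsCoh F) {d : ℕ}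
    (hd : ∀ y : Y, topologicalKrullDim ↥(CohB1.support F ∩ π.base ⁻¹' {y}) ≤ (d : WithBot ℕ∞))
    (hg : KDet.IsPushF π F φX φY g)
    (hgen : ∀ x : KX, x ∈ AddSubgroup.closure {x | ∃ E, Good π F E ∧ x = φX (KRR.cl X E)})
    {G : Y.Modules} (hG : FlatMod.IsFinLocFree G) {E : X.Modules}
    (hE : FlatMod.IsFinLocFreeOfRank (d + 1) E) (q : (Scheme.Modules.pullback π).obj G ⟶ E) [Epi q] :
    0 ≤ PY.aug (g (LambdaRing.gamma d (φX (KRR.cl X E) - ((d + 1 : ℕ) : KX)))) := by
  obtain ⟨η, hη⟩ := exists_dim_zero Y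
  obtain ⟨N, gc, hgc⟩ := exists_isPushCoh π
  have hμ := isCap hKX
  obtain ⟨n, hGn⟩ := Krr.H495.Rank.exists_rank_of_connected hG
  have h1 := K878.ChernMain.chern_pos π η hKX hμ hF (d := d)
    (fun x hx hxη => by
      exact_mod_cast K878.FibDelta.dl_le_of_dim π (Ega3B.Devissage.isClosed_support hF) η (hd η) hx hxη)
    hgc (rk := lam η hη) (fun G hG hy => lam_eq_zero hη hG hy) (fun G hG => lam_nonneg hη hG) hGn hE q
  rw [lam_push π hKY hμ hgc hF hg hgen hη] at h1
  exact nonneg_of_mul_nonneg_left h1 (lam_one_pos hη)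

end K935.AugMain
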