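import Groth.Agent.IntSh.K935.DimFil

/-!
# The codimension on the base as a dimension function

* `isDim_codim`: `-dim O_{Y,y}` is a dimension function outside any set `{y | c < dim O_{Y,y}}`.
* `rtd_le_of_krullDim`: transcendence degrees are bounded by the dimension of the fibres of a closed set.
* `cohPi_mem`, `kpi_le`: classes of modules with support of fibre dimension `≤ d` over points of codimension `≤ 1`.
* `push_mem_coniv`: their push-forwards in the coniveau filtration.
-/

set_option autoImplicit false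
universe v u

open CategoryTheory CategoryTheory.Limits AlgebraicGeometry Opposite TopologicalSpace

namespace K935.CodimFil

open Groth.Agent Groth.Agent.CycB.RelDim K878.KSup K935.DimFil

variable {X Y : Scheme.{u}}

/-- `dim O_{Y,y}` as a natural number. -/
noncomputable def cd (y : Y) : ℕ := (Order.coheight y).toNat

theorem cd_spec [IsLocallyNoetherian Y] (y : Y) : ringKrullDim (Y.presheaf.stalk y) = (cd y : WithBot ℕ∞) := by
  rw [ringKrullDim_stalk_eq_coheight]
  have h1 : Order.coheight y ≠ ⊤ := by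
    intro hc
    have h2 := ringKrullDim_lt_top (R := Y.presheaf.stalk y)
    rw [ringKrullDim_stalk_eq_coheight, hc] at h2
    exact absurd h2 (lt_irrefl _)
  unfold cd
  rw [show ((Order.coheight y).toNat : WithBot ℕ∞) = (((Order.coheight y).toNat : ℕ∞) : WithBot ℕ∞) from rfl,
    ENat.natCast_toNat h1]

theorem cd_lt [IsLocallyNoetherian Y] {y y' : Y} (h : y ⤳ y') (hne : y ≠ y') : cd y < cd y' := by
  have h1 : y' < y := lt_of_le_not_ge (Scheme.le_iff_specializes.2 h) fun h' =>
    hne (h.antisymm (Scheme.le_iff_specializes.1 h')).eq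
  have h2 := Order.coheight_add_one_le h1
  have h3 : ((cd y : WithBot ℕ∞) + 1 : WithBot ℕ∞) ≤ (cd y' : WithBot ℕ∞) := by
    rw [← cd_spec, ← cd_spec, ringKrullDim_stalk_eq_coheight, ringKrullDim_stalk_eq_coheight]
    exact_mod_cast h2
  have h4 : cd y + 1 ≤ cd y' := by exact_mod_cast h3
  exact h4

/-- Minus the codimension is a dimension function outside the points of codimension `> c`. -/
theorem isDim_codim [IsLocallyNoetherian Y] (c : ℕ) : IsDim {y : Y | c < cd y} fun y => -(cd y : ℤ) where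
  stable x y hxy hx := by
    by_cases hne : x = y
    · rw [← hne]
      exact hx
    · exact lt_trans hx (cd_lt hxy hne)
  lt x y hxy hne _ := by
    have := cd_lt hxy hne
    omega

theorem rtd_le_of_krullDim (π : X ⟶ Y) [LocallyOfFiniteType π] {W : Set X} (hW : IsClosed W) {x : X}
    (hx : x ∈ W) {d : ℕ} (h : topologicalKrullDim ↥(W ∩ π.base ⁻¹' {π x}) ≤ (d : WithBot ℕ∞)) :
    Cardinal.toNat (rtd π x) ≤ d := by
  obtain ⟨n, h1, h2⟩ := exists_dim_closure_fiber π (π x) (π.asFiber x)
  rw [Scheme.Hom.fiberι_asFiber] at h1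
  rw [h1, Cardinal.toNat_natCast]
  have hmem : ∀ z : (closure {π.asFiber x} : Set (π.fiber (π x))),
      π.fiberι (π x) z.1 ∈ W ∩ π.base ⁻¹' {π x} := by
    intro z
    refine ⟨?_, ?_⟩
    · have h3 : π.asFiber x ⤳ z.1 := specializes_iff_mem_closure.2 z.2
      have h4 := h3.map (π.fiberι (π x)).continuous
      rw [Scheme.Hom.fiberι_asFiber] at h4
      exact h4.mem_closed hW hx
    · have h3 : π.fiberι (π x) z.1 ∈ Set.range (π.fiberι (π x)) := ⟨z.1, rfl⟩
      rw [Scheme.Hom.range_fiberι] at h3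
      exact h3
  let φ : (closure {π.asFiber x} : Set (π.fiber (π x))) → ↥(W ∩ π.base ⁻¹' {π x}) :=
    fun z => ⟨π.fiberι (π x) z.1, hmem z⟩
  have hφ : Topology.IsInducing φ := by
    have h2 : Topology.IsInducing (fun z : (closure {π.asFiber x} : Set (π.fiber (π x))) =>
        π.fiberι (π x) z.1) :=
      (π.fiberι (π x)).isEmbedding.isInducing.comp Topology.IsInducing.subtypeVal
    exact Topology.IsInducing.of_comp_iff Topology.IsInducing.subtypeVal |>.1 h2
  have h3 := hφ.topologicalKrullDim_le.trans h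
  rw [h2] at h3
  exact_mod_cast h3

theorem krullDim_le_one_iff [IsLocallyNoetherian Y] (y : Y) :
    ringKrullDim (Y.presheaf.stalk y) ≤ 1 ↔ ¬ 1 < cd y := by
  rw [cd_spec]
  constructor
  · intro h h'
    have : cd y ≤ 1 := by exact_mod_cast h
    omega
  · intro h
    have : cd y ≤ 1 := by omega
    exact_mod_cast this

variable [IsLocallyNoetherian Y] [AlgebraicGeometry.IsLocallyNoetherian X]

omit [AlgebraicGeometry.IsLocallyNoetherian X] in
theorem support_subset_of_cohPi (π : X ⟶ Y) [LocallyOfFiniteType π] {d : ℕ} {F : X.Modules}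
    (hF : KDet.CohPi π d F) :
    CohB1.support F ⊆ Low (π ⁻¹' {y : Y | 1 < cd y}) (up π fun y => -(cd y : ℤ)) d := by
  intro x hx
  by_cases h : 1 < cd (π x)
  · exact Or.inl h
  · refine Or.inr ?_
    have h1 := rtd_le_of_krullDim π (Ega3B.Devissage.isClosed_support hF.1) hx
      (hF.2 (π x) ((krullDim_le_one_iff _).2 h))
    change -(cd (π x) : ℤ) + (Cardinal.toNat (rtd π x) : ℤ) ≤ d
    have h2 : (Cardinal.toNat (rtd π x) : ℤ) ≤ d := by exact_mod_cast h1
    omega

omit [AlgebraicGeometry.IsLocallyNoetherian X] in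
theorem kpi_le (π : X ⟶ Y) [LocallyOfFiniteType π] (d : ℕ) :
    KDet.Kpi π d ≤ ksup X (Low (π ⁻¹' {y : Y | 1 < cd y}) (up π fun y => -(cd y : ℤ)) d) := by
  unfold KDet.Kpi
  rw [AddSubgroup.closure_le]
  rintro c ⟨F, hF, rfl⟩
  exact clc_mem fun _ => support_subset_of_cohPi π hF

theorem push_mem_coniv (π : X ⟶ Y) [IsProper π] [HasInjectiveResolutions X.Modules] {N : ℕ}
    {gc : SGA6.Kcoh X →+ SGA6.Kcoh Y} (hgc : KRR.IsPushCoh π N gc) (p : ℕ) (hp : p ≤ 2)
    {ξ : SGA6.Kcoh X} (hξ : ξ ∈ ksup X (Low (π ⁻¹' {y : Y | 1 < cd y}) (up π fun y => -(cd y : ℤ)) (-(p : ℤ)))) :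
    gc ξ ∈ KDet.coniv Y p := by
  have h1 : gc ξ ∈ ksup Y {y : Y | (p : WithBot ℕ∞) ≤ ringKrullDim (Y.presheaf.stalk y)} := by
    refine K878.PushSup.push_mem π hgc (fun x hx => ?_) hξ
    change (p : WithBot ℕ∞) ≤ ringKrullDim (Y.presheaf.stalk (π x))
    rw [cd_spec]
    have h2 : p ≤ cd (π x) := by
      rcases hx with hx | hx
      · have : 1 < cd (π x) := hx
        omega
      · change -(cd (π x) : ℤ) + (Cardinal.toNat (rtd π x) : ℤ) ≤ -(p : ℤ) at hx
        have : (0 : ℤ) ≤ (Cardinal.toNat (rtd π x) : ℤ) := Int.natCast_nonneg _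
        omega
    exact_mod_cast h2
  exact h1

end K935.CodimFil
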