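import Groth.Agent.GRRSing.K937.KcohVan
import Groth.Agent.IntSh.K878.CapEx
import Groth.Agent.IntSh.K878.FilAlg
import Groth.Agent.PicF.K248.Basic
import Groth.Agent.Krr.H487.KerRank
import Groth.Agent.Krr.H495.ExtExist
import Groth.Agent.Krr.H482.PullFinal
import Groth.Agent.IntSh.K877.Pts

/-!
# Classes pulled back from the base act through their rank near a maximal point

* `clc_tensor_sub_mem`: if `A` is free of rank `r` over `V`, then `[A ⊗ H] = r [H]` modulo classes supported off `V`.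
* `act_pull`: for `y ∈ K^•(Y)` and `η` a maximal point of `Y`, `π^* y` acts on `K_•(X)` as the rank of `y`, modulo
  classes supported away from the fibre over `η`.
* `aug_gamma`: `ε(γ^j([G] - rank G)) = 0` for `j ≥ 1`.
-/

set_option autoImplicit false
universe v w u

open CategoryTheory CategoryTheory.Limits AlgebraicGeometry Opposite TopologicalSpace
open AlgebraicGeometry.Scheme.Modules

namespace K935.TrivAct

open Groth.Agent K878.KSup K878.CapEx

variable {X Y : Scheme.{u}}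

theorem restrict_pullback (ϖ : X ⟶ Y) {U : Y.Opens} {D : Y.Modules} {r : ℕ}
    (e : D.restrict U.ι ≅ FlatMod.freeMod (U : Scheme.{u}) r) :
    Nonempty (((Scheme.Modules.pullback ϖ).obj D).restrict (ϖ ⁻¹ᵁ U).ι ≅
      FlatMod.freeMod ((ϖ ⁻¹ᵁ U : X.Opens) : Scheme.{u}) r) := by
  obtain ⟨e1⟩ := K248.Basic.pull_free ((ϖ ⁻¹ᵁ U).ι ≫ ϖ) U (by
    rintro _ ⟨x, rfl⟩
    exact x.2) e
  exact ⟨(restrictFunctorIsoPullback (ϖ ⁻¹ᵁ U).ι).app _ ≪≫
    (Scheme.Modules.pullbackComp (ϖ ⁻¹ᵁ U).ι ϖ).app D ≪≫ e1⟩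

variable [IsNoetherian X]

theorem clc_tensor_sub_mem {V : X.Opens} {A : X.Modules} {r : ℕ}
    (e : A.restrict V.ι ≅ FlatMod.freeMod (V : Scheme.{u}) r) (hA : FlatMod.IsFinLocFree A)
    {H : X.Modules} (hH : Coh.IsCoh H) :
    KDet.clc X (((DCoh.tensorBi (X := X)).obj A).obj H) - r • KDet.clc X H ∈ ksup X (V : Set X)ᶜ := by
  have hAH : Coh.IsCoh (((DCoh.tensorBi (X := X)).obj A).obj H) := isCoh_tb (isCoh_flf hA) hH
  have hB : Coh.IsCoh (⨁ fun _ : Fin r => H) :=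
    (GRRSing.K937.KcohVan.isCoh_van_biproduct (O := ⊥) r hH (GRRSing.K937.KcohVan.van_bot H)).1
  have h1 : KDet.clc X (⨁ fun _ : Fin r => H) = r • KDet.clc X H := by
    rw [clc_eq_mk hB, clc_eq_mk hH]
    exact GRRSing.K937.KcohVan.mk_biproduct r hH hB
  rw [← h1, ← V.range_ι, ← ker_res V.ι, AddMonoidHom.mem_ker, map_sub, res_clc V.ι hAH, res_clc V.ι hB,
    clc_congr (GRRSing.K937.KcohVan.restrictTensorIso r e H), sub_self]

variable {KX : Type v} [CommRing KX]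
  {φX : SGA6.Kvb X →+ KX} {KY : Type w} [CommRing KY] [LambdaRing.LambdaOps KY]
  {PY : LambdaRing.PosStructure KY} {φY : SGA6.Kvb Y →+ KY} {p : KY →+ KX}
  {μ : KX →+ SGA6.Kcoh X →+ SGA6.Kcoh X}

/-- Classes from the base act through their rank near a maximal point of the base. -/
theorem act_pull (hKY : KRR.IsModel Y KY PY φY) (ϖ : X ⟶ Y) (hp : KRR.IsPull ϖ φY φX p)
    (hμ : KDet.IsCap φX μ) (η : Y) (y : KY) (ξ : SGA6.Kcoh X) :
    μ (p y) ξ - PY.aug y • ξ ∈ ksup X (ϖ ⁻¹' {y : Y | y ≠ η}) := by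
  induction y using Krr.H482.PullLambda.model_induction hKY with
  | hcl m E hm hE =>
    have hE' : FlatMod.IsFinLocFree E := Krr.H482.PullLambda.isFinLocFree_of_rank hE
    obtain ⟨U, hηU, ⟨e⟩⟩ := hE η
    obtain ⟨e'⟩ := restrict_pullback ϖ e
    have hsub : (((ϖ ⁻¹ᵁ U : X.Opens) : Set X))ᶜ ⊆ ϖ ⁻¹' {y : Y | y ≠ η} := by
      intro x hx hc
      apply hx
      change ϖ x ∈ U
      rw [hc]
      exact hηU
    have hpull : FlatMod.IsFinLocFree ((Scheme.Modules.pullback ϖ).obj E) :=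
      PerfB.FlatPull.isFinLocFree_pullback ϖ hE'
    rw [hp E hE', hKY.aug_cl m E hE]
    have h2 : ∀ ξ : SGA6.Kcoh X, (μ (φX (KRR.cl X ((Scheme.Modules.pullback ϖ).obj E))) -
        (m : ℤ) • AddMonoidHom.id (SGA6.Kcoh X) : SGA6.Kcoh X →+ SGA6.Kcoh X) ξ ∈
          ksup X (ϖ ⁻¹' {y : Y | y ≠ η}) := by
      intro ξ
      have hξ : ξ ∈ ksup X Set.univ := by
        rw [ksup_univ]
        exact AddSubgroup.mem_top _
      refine map_mem_of _ _ (fun G hG _ => ?_) hξ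
      have h3 := clc_tensor_sub_mem e' hpull hG
      change μ (φX (KRR.cl X ((Scheme.Modules.pullback ϖ).obj E))) (KDet.clc X G) - (m : ℤ) • KDet.clc X G ∈ _
      rw [cap_eq hμ, capHom_cl hpull hG, natCast_zsmul]
      exact ksup_mono hsub h3
    exact h2 ξ
  | hsub x y hx hy =>
    have h1 := sub_mem hx hy
    rw [map_sub, map_sub, map_sub, AddMonoidHom.sub_apply, sub_smul]
    convert h1 using 1
    abel

omit [AlgebraicGeometry.IsNoetherian X] in
/-- `ε(λ^i [G]) = binom(rank G, i)`. -/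
theorem aug_lam (hKY : KRR.IsModel Y KY PY φY) {n : ℕ} {G : Y.Modules}
    (hG : FlatMod.IsFinLocFreeOfRank n G) (i : ℕ) :
    PY.aug (LambdaRing.LambdaOps.lam i (φY (KRR.cl Y G))) = n.choose i := by
  have hG' : FlatMod.IsFinLocFree G := Krr.H482.PullLambda.isFinLocFree_of_rank hG
  obtain ⟨L, hL, hLE⟩ := Krr.H495.ExtExist.exists_isExtPow i G hG'
  rw [hKY.map_lam i G L hG' hL hLE, hKY.aug_cl _ L (Krr.H487.KerRank.isFinLocFreeOfRank_extPow hG hLE)]

omit [AlgebraicGeometry.IsNoetherian X] in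
/-- `ε(γ^j([G] - rank G)) = 0` for `j ≥ 1`. -/
theorem aug_gamma (hKY : KRR.IsModel Y KY PY φY) {n : ℕ} (hn : 1 ≤ n) {G : Y.Modules}
    (hG : FlatMod.IsFinLocFreeOfRank n G) {j : ℕ} (hj : 1 ≤ j) :
    PY.aug (LambdaRing.gamma j (φY (KRR.cl Y G) - (n : KY))) = 0 := by
  have he : φY (KRR.cl Y G) ∈ PY.pos := (hKY.mem_pos_iff _).2 ⟨n, G, hn, hG, rfl⟩
  have haug : (PY.aug (φY (KRR.cl Y G))).toNat = n := by
    rw [hKY.aug_cl n G hG]
    rfl
  have h1 := Books.Lambda2.gammaSeries_pos_sub PY _ he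
  rw [haug] at h1
  rw [← Books.Lambda2.coeff_gammaSeries, h1]
  have h2 : PY.aug (PowerSeries.coeff j (∑ i ∈ Finset.range (n + 1),
      PowerSeries.C (LambdaRing.LambdaOps.lam i (φY (KRR.cl Y G))) *
        (PowerSeries.X ^ i * (1 - PowerSeries.X) ^ (n - i)))) =
      PowerSeries.coeff j (PowerSeries.map PY.aug (∑ i ∈ Finset.range (n + 1),
      PowerSeries.C (LambdaRing.LambdaOps.lam i (φY (KRR.cl Y G))) *
        (PowerSeries.X ^ i * (1 - PowerSeries.X) ^ (n - i)))) := by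
    rw [PowerSeries.coeff_map]
  rw [h2, map_sum]
  have h3 : ∀ i ∈ Finset.range (n + 1), PowerSeries.map PY.aug
      (PowerSeries.C (LambdaRing.LambdaOps.lam i (φY (KRR.cl Y G))) *
        (PowerSeries.X ^ i * (1 - PowerSeries.X) ^ (n - i))) =
      PowerSeries.X ^ i * (1 - PowerSeries.X) ^ (n - i) * ((n.choose i : ℕ) : PowerSeries ℤ) := by
    intro i _
    rw [map_mul, PowerSeries.map_C, aug_lam hKY hG, map_mul, map_pow, map_pow, map_sub, map_one,
      PowerSeries.map_X, mul_comm]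
    simp
  rw [Finset.sum_congr rfl h3, ← add_pow, add_sub_cancel, one_pow, PowerSeries.coeff_one, if_neg (by omega)]

end K935.TrivAct
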