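import Groth.Agent.S15981
import Groth.Agent.IntSh.K878.KSup
import Groth.Agent.IntSh.K935.TrivAct
import Groth.Agent.IntSh.K877.Pts
import Groth.Agent.CycB.PushStalk

/-!
# The length at a maximal point as a functional on `K_•`
-/

set_option autoImplicit false
universe u

open CategoryTheory CategoryTheory.Limits AlgebraicGeometry Opposite TopologicalSpace

namespace K935.Lam

open Groth.Agent K878.KSup K878.CapEx K935.TrivAct

variable {Y : Scheme.{u}} [AlgebraicGeometry.IsNoetherian Y]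

/-- The length at a maximal point. -/
noncomputable def lam (η : Y) (hη : ringKrullDim (Y.presheaf.stalk η) = 0) : SGA6.Kcoh Y →+ ℤ :=
  (Pi.evalAddMonoidHom (fun _ : {y : Y // ringKrullDim (Y.presheaf.stalk y) = 0} => ℤ) ⟨η, hη⟩).comp
    S15981.rkHom

variable {η : Y} (hη : ringKrullDim (Y.presheaf.stalk η) = 0)

theorem lam_clc {F : Y.Modules} (hF : Coh.IsCoh F) :
    lam η hη (KDet.clc Y F) = ((Module.length (Y.presheaf.stalk η) (F.presheaf.stalk η)).toNat : ℤ) :=
  congrFun (S15981.rkHom_cl hF) ⟨η, hη⟩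

theorem lam_nonneg {F : Y.Modules} (hF : Coh.IsCoh F) : 0 ≤ lam η hη (KDet.clc Y F) := by
  rw [lam_clc hη hF]
  exact Int.natCast_nonneg _

theorem lam_eq_zero {F : Y.Modules} (hF : Coh.IsCoh F) (h : η ∉ CohB1.support F) :
    lam η hη (KDet.clc Y F) = 0 := by
  rw [lam_clc hη hF]
  have h3 : Subsingleton (F.presheaf.stalk η) := (CohqB.DevSupport.not_mem_support_iff _ _).1 h
  rw [Module.length_eq_zero]
  rfl

theorem lam_ksup {T : Set Y} (hT : η ∉ T) {ξ : SGA6.Kcoh Y} (hξ : ξ ∈ ksup Y T) : lam η hη ξ = 0 := by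
  have h1 := map_mem_of (lam η hη) (⊥ : AddSubgroup ℤ) (fun G hG hGT => ?_) hξ
  · exact (AddSubgroup.mem_bot).1 h1
  · rw [AddSubgroup.mem_bot]
    exact lam_eq_zero hη hG fun hc => hT (hGT hc)

theorem lam_cl {n : ℕ} {V : Y.Modules} (hV : FlatMod.IsFinLocFreeOfRank n V) :
    lam η hη (KDet.clc Y V) = n * lam η hη (KDet.clc Y (Coh.structureModule Y)) := by
  obtain ⟨U, hηU, ⟨e⟩⟩ := hV η
  have hVf : FlatMod.IsFinLocFree V := Krr.H482.PullLambda.isFinLocFree_of_rank hV
  have h1 := clc_tensor_sub_mem e hVf (Fdesc.StructMod.isCoh_structureModule Y)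
  have e1 : ((DCoh.tensorBi (X := Y)).obj V).obj (Coh.structureModule Y) ≅ V := Ega2.Tens.runit V
  rw [clc_congr e1] at h1
  have h2 := lam_ksup hη (T := (U : Set Y)ᶜ) (fun hc => hc hηU) h1
  rw [map_sub, map_nsmul, sub_eq_zero] at h2
  rw [h2, nsmul_eq_mul]

theorem lam_one_pos : 0 < lam η hη (KDet.clc Y (Coh.structureModule Y)) := by
  have hO := Fdesc.StructMod.isCoh_structureModule Y
  rw [lam_clc hη hO]
  have h1 := S15981.length_ne_top hO hη
  have h2 : Module.length (Y.presheaf.stalk η) ((Coh.structureModule Y).presheaf.stalk η) ≠ 0 := by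
    rw [Ne, Module.length_eq_zero_iff, not_subsingleton_iff_nontrivial]
    exact (CycB.PushStalk.unitStalk Y η).symm.toEquiv.nontrivial
  have h3 : (Module.length (Y.presheaf.stalk η) ((Coh.structureModule Y).presheaf.stalk η)).toNat ≠ 0 := by
    rw [Ne, ENat.toNat_eq_zero]
    rintro (h | h)
    · exact h2 h
    · exact h1 h
  exact_mod_cast Nat.pos_of_ne_zero h3

end K935.Lam
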