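import Groth.Agent.IntSh.K935.TrivAct
import Groth.Agent.IntSh.K935.Lam
import Groth.Agent.IntSh.K935.CodimFil
import Groth.Agent.IntSh.K937.ProjDet
import Groth.Agent.Krr.H485.PushCoh
import Groth.Agent.CohqA.RelCoh2

/-!
# The augmentation of the push-forward twisted by a flat module, as a length at a maximal point

* `lam_push`: `λ_η(π_*(x · [F])) = ε(π_*^F x) · length(O_η)`.
* `support_subset`: the support of `F` in terms of the dimension function `x ↦ trdeg κ(x)/κ(η)`.
* `exists_dim_zero`: a maximal point; `exists_isPushCoh`: the push-forward on `K_•`.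
-/

set_option autoImplicit false
universe v w u

open CategoryTheory CategoryTheory.Limits AlgebraicGeometry Opposite TopologicalSpace

namespace K935.PushF

open Groth.Agent Groth.Agent.CycB.RelDim K878.KSup K878.CapEx K935.DimFil K935.Lam K935.TrivAct
  K937.ProjDet

variable {X Y : Scheme.{u}} [AlgebraicGeometry.IsNoetherian X] [AlgebraicGeometry.IsNoetherian Y]

variable (π : X ⟶ Y) [IsProper π] [HasInjectiveResolutions X.Modules] [ConnectedSpace Y]
  {KX : Type v} [CommRing KX] [LambdaRing.LambdaOps KX] {PX : LambdaRing.PosStructure KX}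
  {φX : SGA6.Kvb X →+ KX} {KY : Type w} [CommRing KY] [LambdaRing.LambdaOps KY]
  {PY : LambdaRing.PosStructure KY} {φY : SGA6.Kvb Y →+ KY}
  {μ : KX →+ SGA6.Kcoh X →+ SGA6.Kcoh X} {g : KX →+ KY} {N : ℕ} {gc : SGA6.Kcoh X →+ SGA6.Kcoh Y}

omit [IsProper π] [LambdaRing.LambdaOps KX] in
theorem lam_push (hKY : KRR.IsModel Y KY PY φY) (hμ : KDet.IsCap φX μ) (hgc : KRR.IsPushCoh π N gc)
    {F : X.Modules} (hF : Coh.IsCoh F) (hg : KDet.IsPushF π F φX φY g)
    (hgen : ∀ x : KX, x ∈ AddSubgroup.closure {x | ∃ E, Good π F E ∧ x = φX (KRR.cl X E)})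
    {η : Y} (hη : ringKrullDim (Y.presheaf.stalk η) = 0) (x : KX) :
    lam η hη (gc (μ x (KDet.clc X F))) =
      PY.aug (g x) * lam η hη (KDet.clc Y (Coh.structureModule Y)) := by
  have hx := hgen x
  induction hx using AddSubgroup.closure_induction with
  | zero => simp
  | add x y _ _ hx hy => rw [map_add, AddMonoidHom.add_apply, map_add, map_add, hx, hy, map_add, map_add, add_mul]
  | neg x _ hx => rw [map_neg, AddMonoidHom.neg_apply, map_neg, map_neg, hx, map_neg, map_neg, neg_mul]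
  | mem x hx =>
    obtain ⟨E, hE, rfl⟩ := hx
    have hEc : Coh.IsCoh E := isCoh_flf hE.flf
    have hT : Coh.IsCoh (((DCoh.tensorBi (X := X)).obj F).obj E) := isCoh_tb hF hEc
    obtain ⟨n, hVn⟩ := Krr.H495.Rank.exists_rank_of_connected hE.push
    rw [hg E hE.flf hE.zero hE.push, hKY.aug_cl n _ hVn, ← lam_cl hη hVn]
    congr 1
    rw [cap_eq hμ, capHom_cl hE.flf hF, clc_congr (show (tb E).obj F ≅ ((DCoh.tensorBi (X := X)).obj F).obj E from
      Sga67.TensorOps.tensorComm E F)]
    have h1 : gc (KDet.clc X (((DCoh.tensorBi (X := X)).obj F).obj E)) = _ := hgc.2 _ hT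
    rw [h1, Finset.sum_range_succ']
    have h2 : ∀ i ∈ Finset.range N, (-1 : ℤ) ^ (i + 1) • KZero.clSub (fun M : Y.Modules => Coh.IsCoh M)
        ((Coh.Rpush π (i + 1)).obj (((DCoh.tensorBi (X := X)).obj F).obj E)) = 0 := by
      intro i _
      rw [show KZero.clSub (fun M : Y.Modules => Coh.IsCoh M)
        ((Coh.Rpush π (i + 1)).obj (((DCoh.tensorBi (X := X)).obj F).obj E)) = 0 from
        clc_isZero (hE.zero (i + 1) (Nat.succ_pos i)), smul_zero]
    rw [Finset.sum_eq_zero h2, zero_add, pow_zero, one_zsmul]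
    exact clc_congr ((Coh.push π).rightDerivedZeroIsoSelf.app _)

omit [AlgebraicGeometry.IsNoetherian X] [AlgebraicGeometry.IsNoetherian Y] [HasInjectiveResolutions X.Modules]
  [ConnectedSpace Y] in
/-- The support of a module with fibres of dimension `≤ d`. -/
theorem support_subset {F : X.Modules} (hF : Coh.IsCoh F) (η : Y) {d : ℕ}
    (hd : topologicalKrullDim ↥(CohB1.support F ∩ π.base ⁻¹' {η}) ≤ (d : WithBot ℕ∞)) :
    CohB1.support F ⊆ Low (π ⁻¹' {y : Y | y ≠ η}) (up π fun _ => 0) d := by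
  intro x hx
  by_cases h : π x = η
  · refine Or.inr ?_
    have h1 := CodimFil.rtd_le_of_krullDim π (Ega3B.Devissage.isClosed_support hF) hx (d := d) (by
      rw [h]
      exact hd)
    change (0 : ℤ) + (Cardinal.toNat (rtd π x) : ℤ) ≤ d
    have h2 : (Cardinal.toNat (rtd π x) : ℤ) ≤ d := by exact_mod_cast h1
    omega
  · exact Or.inl h

omit [AlgebraicGeometry.IsNoetherian X] [IsProper π] [HasInjectiveResolutions X.Modules] in
/-- A maximal point. -/
theorem exists_dim_zero (Y : Scheme.{u}) [AlgebraicGeometry.IsNoetherian Y] [Nonempty Y] :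
    ∃ η : Y, ringKrullDim (Y.presheaf.stalk η) = 0 := by
  obtain ⟨η, hη⟩ : ∃ η : Y, ∀ y : Y, CodimFil.cd η ≤ CodimFil.cd y :=
    ⟨Function.argmin CodimFil.cd, fun y => Function.argmin_le CodimFil.cd y⟩
  refine ⟨η, (IntSh.K877.Pts.dim_eq_zero_iff η).2 fun y hy => ?_⟩
  by_contra hne
  have h1 := CodimFil.cd_lt hy hne
  have h2 := hη y
  omega

omit [AlgebraicGeometry.IsNoetherian X] [ConnectedSpace Y] in
/-- The push-forward on `K_•`. -/
theorem exists_isPushCoh : ∃ (N : ℕ) (gc : SGA6.Kcoh X →+ SGA6.Kcoh Y), KRR.IsPushCoh π N gc := by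
  obtain ⟨N, hN⟩ := CohqA.RelCoh.exists_bound_Rpush π
  exact ⟨N, _, Krr.H485.PushCoh.isPushCoh_pushCoh π N fun F hF q hq => hN F hF.1 q hq.le⟩

end K935.PushF
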